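import Groth.Agent.Koszul41.TopLim
import Groth.Agent.Koszul41.Reg
import Mathlib.RingTheory.MvPolynomial.Ideal

/-!
Colimit Koszul cohomology of a polynomial ring with respect to the variables.
-/

namespace Groth.Agent.Koszul41.Poly

universe u

set_option autoImplicit false

open MvPolynomial

variable (A : Type u) [CommRing A] (k : ℕ)

/-- the variables -/
noncomputable abbrev Xs : List (MvPolynomial (Fin k) A) := List.ofFn fun j => X j

variable {A k}

theorem shift_mem {p : MvPolynomial (Fin k) A} {e : Fin k →₀ ℕ} (d : Fin k →₀ ℕ)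
    (he : e ∈ p.support) : d + e ∈ (monomial d (1 : A) * p).support := by
  rw [mem_support_iff, coeff_monomial_mul, one_mul]
  exact mem_support_iff.1 he

theorem ofList_pow (s : Finset (Fin k)) (n : ℕ) (l : List (MvPolynomial (Fin k) A))
    (hl : ∀ x, x ∈ l ↔ ∃ j ∈ s, X j ^ n = x) (x : MvPolynomial (Fin k) A) :
    x ∈ Ideal.ofList l ↔ ∀ e ∈ x.support, ∃ j ∈ s, n ≤ e j := by
  have : Ideal.ofList l = Ideal.span ((fun e => monomial e (1 : A)) ''
      ((fun j => Finsupp.single j n) '' (s : Set (Fin k)))) := by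
    rw [Ideal.ofList, Set.image_image]
    congr 1
    ext y
    simp only [Set.mem_ofPred_eq, hl, Set.mem_image, Finset.mem_coe, X_pow_eq_monomial]
  rw [this, mem_ideal_span_monomial_image]
  refine forall₂_congr fun e _ => ?_
  constructor
  · rintro ⟨_, ⟨j, hj, rfl⟩, hle⟩
    exact ⟨j, hj, by simpa using hle j⟩
  · rintro ⟨j, hj, hle⟩
    exact ⟨_, ⟨j, hj, rfl⟩, Finsupp.single_le_iff.2 hle⟩

theorem mem_pow_iff (n : ℕ) (x : MvPolynomial (Fin k) A) :
    x ∈ Ideal.ofList ((Xs A k).map (· ^ n)) ↔ ∀ e ∈ x.support, ∃ j, n ≤ e j := by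
  rw [ofList_pow (A := A) Finset.univ n _ (fun y => by simp [List.mem_map, List.mem_ofFn])]
  simp

theorem isWeaklyRegular_pow (n : ℕ) :
    RingTheory.Sequence.IsWeaklyRegular (MvPolynomial (Fin k) A) ((Xs A k).map (· ^ n)) := by
  rw [RingTheory.Sequence.isWeaklyRegular_iff]
  intro i hi
  have hi' : i < k := by simpa using hi
  have hl : ∀ x, x ∈ ((Xs A k).map (· ^ n)).take i ↔
      ∃ j ∈ Finset.univ.filter (fun j : Fin k => (j : ℕ) < i), X j ^ n = x := by
    intro x
    rw [List.mem_take_iff_getElem]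
    constructor
    · rintro ⟨j, hj, rfl⟩
      simp only [List.length_map, List.length_ofFn, lt_min_iff] at hj
      exact ⟨⟨j, hj.2⟩, by simpa using hj.1, by simp⟩
    · rintro ⟨j, hj, rfl⟩
      exact ⟨j, by simpa using hj, by simp⟩
  have hget : ((Xs A k).map (· ^ n))[i] = X (⟨i, hi'⟩ : Fin k) ^ n := by simp
  rw [hget]
  have hsm : Ideal.ofList (((Xs A k).map (· ^ n)).take i) •
      (⊤ : Submodule (MvPolynomial (Fin k) A) (MvPolynomial (Fin k) A)) =
        Ideal.ofList (((Xs A k).map (· ^ n)).take i) := by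
    rw [smul_eq_mul, Ideal.mul_top]
  refine IsSMulRegular.of_right_eq_zero_of_smul fun q hq => ?_
  obtain ⟨p, rfl⟩ := Submodule.Quotient.mk_surjective _ q
  rw [← Submodule.Quotient.mk_smul, Submodule.Quotient.mk_eq_zero, hsm, smul_eq_mul,
    ofList_pow _ n _ hl, X_pow_eq_monomial] at hq
  rw [Submodule.Quotient.mk_eq_zero, hsm, ofList_pow _ n _ hl]
  intro e he
  obtain ⟨j, hj, hle⟩ := hq (Finsupp.single (⟨i, hi'⟩ : Fin k) n + e) (shift_mem _ he)
  have hne : j ≠ ⟨i, hi'⟩ := by
    rintro rfl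
    simp at hj
  refine ⟨j, hj, ?_⟩
  simpa [Finsupp.single_eq_of_ne' hne.symm] using hle

theorem prod_pow (d : ℕ) :
    (Xs A k).prod ^ d = monomial (Finsupp.equivFunOnFinite.symm fun _ : Fin k => d) (1 : A) := by
  rw [List.prod_ofFn, monomial_eq, C_1, one_mul, Finsupp.prod_fintype _ _ (fun _ => by simp),
    ← Finset.prod_pow]
  simp

variable (A k)

open CategoryTheory in
/-- the colimit in top degree -/
noncomputable abbrev H : Type u :=
  CohIII.koszulHLim (Xs A k) (ModuleCat.of (MvPolynomial (Fin k) A) (MvPolynomial (Fin k) A)) k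

/-- the structure maps -/
noncomputable def γ (n : ℕ) : MvPolynomial (Fin k) A →ₗ[MvPolynomial (Fin k) A] H A k :=
  topLim (ModuleCat.of (MvPolynomial (Fin k) A) (MvPolynomial (Fin k) A)) (Xs A k) k (by simp) n

variable {A k}

theorem γ_shift (n m : ℕ) (h : n ≤ m) (p : MvPolynomial (Fin k) A) :
    γ A k m ((Xs A k).prod ^ (m - n) * p) = γ A k n p :=
  topLim_trans (ModuleCat.of (MvPolynomial (Fin k) A) (MvPolynomial (Fin k) A)) (Xs A k) k
    (by simp) n m h p

theorem γ_eq_zero_iff (n : ℕ) (p : MvPolynomial (Fin k) A) :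
    γ A k n p = 0 ↔ ∀ e ∈ p.support, ∃ j, n ≤ e j := by
  refine (topLim_eq_zero_iff (ModuleCat.of (MvPolynomial (Fin k) A) (MvPolynomial (Fin k) A))
    (Xs A k) k (by simp) n p).trans ⟨?_, fun h => ⟨n, le_rfl, ?_⟩⟩
  · rintro ⟨m, hm, hmem⟩ e he
    rw [smul_eq_mul, Ideal.mul_top, smul_eq_mul, mem_pow_iff, prod_pow] at hmem
    obtain ⟨j, hj⟩ := hmem _ (shift_mem _ he)
    exact ⟨j, by simp at hj; omega⟩
  · rw [smul_eq_mul, Ideal.mul_top, smul_eq_mul, Nat.sub_self, pow_zero, one_mul,
      mem_pow_iff]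
    exact h

variable (A k)

/-- the exponent of the basis element with index `a` at level `n` -/
noncomputable def ex (n : ℕ) (a : Fin k → ℕ) : Fin k →₀ ℕ :=
  Finsupp.equivFunOnFinite.symm fun j => n - 1 - a j

/-- a level large enough for the index -/
def lev (a : Fin k → ℕ) : ℕ := Finset.univ.sup fun j => a j + 1

/-- the candidate basis -/
noncomputable def b (a : Fin k → ℕ) : H A k := γ A k (lev k a) (monomial (ex k (lev k a) a) 1)

variable {A k}

theorem b_eq (n : ℕ) (a : Fin k → ℕ) (h : ∀ j, a j < n) :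
    γ A k n (monomial (ex k n a) 1) = b A k a := by
  have hle : lev k a ≤ n := Finset.sup_le fun j _ => h j
  rw [b, ← γ_shift _ _ hle, prod_pow, monomial_mul, one_mul]
  congr 2
  congr 1
  ext j
  have : a j + 1 ≤ lev k a :=
    Finset.le_sup (f := fun j => a j + 1) (Finset.mem_univ j)
  simp [ex]
  omega

variable (A k)

/-- the comparison -/
noncomputable def Φ : ((Fin k → ℕ) →₀ A) →ₗ[A] RestrictScalars A (MvPolynomial (Fin k) A) (H A k) :=
  Finsupp.linearCombination A fun a =>
    (RestrictScalars.addEquiv A (MvPolynomial (Fin k) A) (H A k)).symm (b A k a)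

variable {A k}

theorem addEquiv_Φ (c : (Fin k → ℕ) →₀ A) :
    RestrictScalars.addEquiv A (MvPolynomial (Fin k) A) (H A k) (Φ A k c) =
      c.sum fun a x => (C x : MvPolynomial (Fin k) A) • b A k a := by
  rw [Φ, Finsupp.linearCombination_apply, map_finsuppSum]
  refine Finsupp.sum_congr fun a _ => ?_
  rw [RestrictScalars.addEquiv_map_smul, AddEquiv.apply_symm_apply]
  rfl

theorem γ_monomial (n : ℕ) (e : Fin k →₀ ℕ) (x : A) (h : ∀ j, e j < n) :
    γ A k n (monomial e x) = (C x : MvPolynomial (Fin k) A) • b A k (fun j => n - 1 - e j) := by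
  rw [← b_eq n _ (fun j => by have := h j; omega), ← map_smul, smul_eq_mul, C_mul_monomial, mul_one]
  congr 2
  congr 1
  ext j
  have := h j
  simp [ex]
  omega

theorem Φ_surjective : Function.Surjective (Φ A k) := by
  intro z
  obtain ⟨n, p, hp⟩ := topLim_surjective
    (ModuleCat.of (MvPolynomial (Fin k) A) (MvPolynomial (Fin k) A)) (Xs A k) k (by simp)
    (RestrictScalars.addEquiv A (MvPolynomial (Fin k) A) (H A k) z)
  suffices ∀ p : MvPolynomial (Fin k) A, ∃ c,
      RestrictScalars.addEquiv A (MvPolynomial (Fin k) A) (H A k) (Φ A k c) = γ A k n p by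
    obtain ⟨c, hc⟩ := this p
    exact ⟨c, (RestrictScalars.addEquiv A (MvPolynomial (Fin k) A) (H A k)).injective (hc.trans hp)⟩
  intro p
  induction p using MvPolynomial.induction_on' with
  | monomial e x =>
    by_cases h : ∀ j, e j < n
    · refine ⟨Finsupp.single (fun j => n - 1 - e j) x, ?_⟩
      rw [addEquiv_Φ, Finsupp.sum_single_index (by simp), γ_monomial n e x h]
    · refine ⟨0, ?_⟩
      push Not at h
      rw [map_zero, map_zero, eq_comm, γ_eq_zero_iff]
      intro e' he'
      rw [Finset.mem_singleton.1 (support_monomial_subset he')]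
      exact h
  | add p q hp hq =>
    obtain ⟨c, hc⟩ := hp
    obtain ⟨d, hd⟩ := hq
    exact ⟨c + d, by rw [map_add, map_add, map_add, hc, hd]⟩

theorem Φ_injective : Function.Injective (Φ A k) := by
  rw [injective_iff_map_eq_zero]
  intro c hc
  ext a₀
  by_contra hne
  rw [Finsupp.coe_zero, Pi.zero_apply] at hne
  let n := c.support.sup (lev k)
  have hlt : ∀ a ∈ c.support, ∀ j, a j < n := fun a ha j =>
    Nat.lt_of_succ_le ((Finset.le_sup (f := fun j => a j + 1) (Finset.mem_univ j)).trans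
      (Finset.le_sup (f := lev k) ha))
  have h0 : γ A k n (c.sum fun a x => monomial (ex k n a) x) = 0 := by
    rw [map_finsuppSum]
    have := congrArg (RestrictScalars.addEquiv A (MvPolynomial (Fin k) A) (H A k)) hc
    rw [addEquiv_Φ, map_zero] at this
    refine Eq.trans (Finsupp.sum_congr fun a ha => ?_) this
    rw [← b_eq n a (hlt a ha), ← map_smul, smul_eq_mul, C_mul_monomial, mul_one]
  have ha₀ : a₀ ∈ c.support := Finsupp.mem_support_iff.2 hne
  obtain ⟨j, hj⟩ := (γ_eq_zero_iff n _).1 h0 (ex k n a₀) (by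
    rw [mem_support_iff, Finsupp.sum, coeff_sum, Finset.sum_eq_single a₀]
    · rwa [coeff_monomial, if_pos rfl]
    · intro a ha hne'
      rw [coeff_monomial, if_neg]
      intro he
      apply hne'
      funext j
      have h1 : ex k n a j = ex k n a₀ j := by rw [he]
      have := hlt a ha j
      have := hlt a₀ ha₀ j
      simp [ex] at h1
      omega
    · exact fun h => absurd ha₀ h)
  have := hlt a₀ ha₀ j
  simp [ex] at hj
  omega

theorem free : Module.Free A (RestrictScalars A (MvPolynomial (Fin k) A) (H A k)) :=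
  Module.Free.of_equiv (LinearEquiv.ofBijective (Φ A k) ⟨Φ_injective, Φ_surjective⟩)

theorem subsingleton (i : ℕ) (hi : i ≠ k) : Subsingleton
    (CohIII.koszulHLim (Xs A k)
      (ModuleCat.of (MvPolynomial (Fin k) A) (MvPolynomial (Fin k) A)) i) := by
  refine subsingleton_of_forall_eq 0 fun x => ?_
  obtain ⟨n, y, rfl⟩ := Module.DirectLimit.exists_of
    (G := fun n => (CohIII.koszulHPow (Xs A k)
      (ModuleCat.of (MvPolynomial (Fin k) A) (MvPolynomial (Fin k) A)) i n : Type u)) x
  haveI := ModuleCat.subsingleton_of_isZero ((Koszul19.isZero_homology_iff_ex _ _).2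
    (ex_of_isWeaklyRegular _ _ (isWeaklyRegular_pow (A := A) (k := k) n)
      ((i : ℤ) - (Xs A k).length) (by simp; omega)))
  rw [Subsingleton.elim y 0]
  exact map_zero _

end Groth.Agent.Koszul41.Poly
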