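import Groth.Agent.Koszul94.Top
import Groth.Agent.LC15.KoszulLim
import Groth.Agent.LC16.KoszulFam

/-!
The top degree of the colimit of Koszul cohomology of powers.
-/

namespace Groth.Agent.Koszul41

universe u

set_option autoImplicit false

open CategoryTheory CategoryTheory.Limits Koszul19

variable {A : Type u} [CommRing A] (M : ModuleCat.{u} A)

theorem eps_TT : ∀ (fs : List A) (n m : ℕ) (h : n ≤ m) (x : (LC15.KL.KP M fs n).X 0),
    Koszul94.eps M (fs.map (· ^ m)) (LC15.KL.TT fs n m h 0 x) =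
      (fs.prod ^ (m - n)) • Koszul94.eps M (fs.map (· ^ n)) x
  | [], n, m, h, x => by
    rw [List.prod_nil, one_pow, one_smul]
    rfl
  | f :: fs, n, m, h, x => by
    obtain ⟨⟨a, b⟩, rfl⟩ := ((LC15.KL.cd M f fs n).e 0 1 (zero_add 1)).symm.surjective x
    rw [LC15.KL.TT_cons_symm f fs n m h 0 1 (zero_add 1) a b]
    change Koszul94.eps M (fs.map (· ^ m))
        ((LC15.KL.cd M f fs m).e 0 1 (zero_add 1) (((LC15.KL.cd M f fs m).e 0 1 (zero_add 1)).symm _)).2 =
      _ • Koszul94.eps M (fs.map (· ^ n))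
        ((LC15.KL.cd M f fs n).e 0 1 (zero_add 1) (((LC15.KL.cd M f fs n).e 0 1 (zero_add 1)).symm _)).2
    rw [LinearEquiv.apply_symm_apply, LinearEquiv.apply_symm_apply]
    change Koszul94.eps M (fs.map (· ^ m)) (f ^ (m - n) • LC15.KL.TT fs n m h 0 b) = _
    rw [map_smul, eps_TT fs n m h b, smul_smul, List.prod_cons, mul_pow]

variable (fs : List A)

theorem subsingleton_one (n : ℕ) :
    Subsingleton ((CohIII.koszulCx M (fs.map (· ^ n))).X 1 : Type u) :=
  Koszul94.subsingleton_X M _ 1 one_pos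

/-- the module maps onto the top cohomology -/
noncomputable def topHom (n : ℕ) :
    ModuleCat.of A M ⟶ (CohIII.koszulCx M (fs.map (· ^ n))).homology 0 :=
  (CohIII.koszulCx M (fs.map (· ^ n))).liftCycles
    (ModuleCat.ofHom (Koszul94.eps M (fs.map (· ^ n))).symm.toLinearMap) 1 (by simp) (by
      haveI := subsingleton_one M fs n
      ext x
      exact Subsingleton.elim _ _) ≫ (CohIII.koszulCx M (fs.map (· ^ n))).homologyπ 0

theorem topHom_surjective (n : ℕ) : Function.Surjective (topHom M fs n).hom := by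
  intro y
  obtain ⟨c, rfl⟩ := (ModuleCat.epi_iff_surjective
    ((CohIII.koszulCx M (fs.map (· ^ n))).homologyπ 0)).1 inferInstance y
  refine ⟨Koszul94.eps M (fs.map (· ^ n))
    (((CohIII.koszulCx M (fs.map (· ^ n))).iCycles 0).hom c), ?_⟩
  refine congrArg ((CohIII.koszulCx M (fs.map (· ^ n))).homologyπ 0).hom
    ((ModuleCat.mono_iff_injective
    ((CohIII.koszulCx M (fs.map (· ^ n))).iCycles 0)).1 inferInstance ?_)
  change ((HomologicalComplex.liftCycles _ _ _ _ _) ≫
    (CohIII.koszulCx M (fs.map (· ^ n))).iCycles 0).hom _ = _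
  rw [HomologicalComplex.liftCycles_i]
  exact LinearEquiv.symm_apply_apply _ _

theorem topHom_eq_zero_iff (n : ℕ) (x : M) :
    (topHom M fs n).hom x = 0 ↔ x ∈ Ideal.ofList (fs.map (· ^ n)) • (⊤ : Submodule A M) := by
  let K := CohIII.koszulCx M (fs.map (· ^ n))
  have hex : (ShortComplex.mk (K.toCycles (-1) 0) (K.homologyπ 0)
      (K.toCycles_comp_homologyπ _ _)).Exact :=
    ShortComplex.exact_of_g_is_cokernel _ (K.homologyIsCokernel (-1) 0 (by simp))
  rw [ShortComplex.moduleCat_exact_iff] at hex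
  rw [← Koszul94.range_eps_d]
  have hl : ∀ (k : ModuleCat.of A M ⟶ K.X 0) (hj : (ComplexShape.up ℤ).next 0 = 1)
      (hk : k ≫ K.d 0 1 = 0) (y : M),
      (K.iCycles 0).hom ((K.liftCycles k 1 hj hk).hom y) = k.hom y := fun k hj hk y =>
    congrArg (fun ψ => ψ.hom y) (K.liftCycles_i k 1 hj hk)
  constructor
  · intro hx
    obtain ⟨w, hw⟩ := hex _ hx
    refine ⟨w, ?_⟩
    have h1 := congrArg (fun ψ => ψ.hom w) (K.toCycles_i (-1) 0)
    simp only [ModuleCat.hom_comp, LinearMap.comp_apply] at h1
    rw [LinearMap.comp_apply, LinearEquiv.coe_coe]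
    change Koszul94.eps M _ ((K.d (-1) 0).hom w) = x
    rw [← h1]
    erw [hw, hl]
    exact LinearEquiv.apply_symm_apply _ _
  · rintro ⟨w, rfl⟩
    have h1 : ∀ y, (K.iCycles 0).hom ((K.toCycles (-1) 0).hom y) = (K.d (-1) 0).hom y := fun y =>
      congrArg (fun ψ => ψ.hom y) (K.toCycles_i (-1) 0)
    have h2 : (K.toCycles (-1) 0).hom w = (K.liftCycles
        (ModuleCat.ofHom (Koszul94.eps M (fs.map (· ^ n))).symm.toLinearMap) 1 (by simp) (by
          haveI := subsingleton_one M fs n
          ext x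
          exact Subsingleton.elim _ _)).hom
        (Koszul94.eps M (fs.map (· ^ n)) ((K.d (-1) 0).hom w)) :=
      (ModuleCat.mono_iff_injective (K.iCycles 0)).1 inferInstance (by
        rw [h1, hl]
        exact (LinearEquiv.symm_apply_apply _ _).symm)
    exact (congrArg (K.homologyπ 0).hom h2).symm.trans
      (congrArg (fun ψ => ψ.hom w) (K.toCycles_comp_homologyπ (-1) 0))

theorem topHom_trans (n m : ℕ) (h : n ≤ m) (x : M) :
    (HomologicalComplex.homologyMap (CohIII.koszulTrans M n m h fs) 0).hom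
        ((topHom M fs n).hom x) = (topHom M fs m).hom (fs.prod ^ (m - n) • x) := by
  have e : ModuleCat.ofHom (Koszul94.eps M (fs.map (· ^ n))).symm.toLinearMap ≫
      (CohIII.koszulTrans M n m h fs).f 0 = ModuleCat.ofHom (fs.prod ^ (m - n) • LinearMap.id) ≫
        ModuleCat.ofHom (Koszul94.eps M (fs.map (· ^ m))).symm.toLinearMap := by
    ext y
    apply (Koszul94.eps M (fs.map (· ^ m))).injective
    exact ((eps_TT M fs n m h _).trans (congrArg (fs.prod ^ (m - n) • ·)
      ((Koszul94.eps M (fs.map (· ^ n))).apply_symm_apply y))).trans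
      (LinearEquiv.apply_symm_apply _ _).symm
  change (((CohIII.koszulCx M (fs.map (· ^ n))).liftCycles _ 1 _ _ ≫
    (CohIII.koszulCx M (fs.map (· ^ n))).homologyπ 0) ≫
      HomologicalComplex.homologyMap (CohIII.koszulTrans M n m h fs) 0).hom x =
    (ModuleCat.ofHom (fs.prod ^ (m - n) • (LinearMap.id : M →ₗ[A] M)) ≫ topHom M fs m).hom x
  rw [Category.assoc, HomologicalComplex.homologyπ_naturality,
    HomologicalComplex.liftCycles_comp_cyclesMap_assoc, topHom,
    HomologicalComplex.comp_liftCycles_assoc]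
  simp only [e]

theorem deg_eq (p : ℕ) (hp : p = fs.length) (n : ℕ) :
    (CohIII.koszulCx M (fs.map (· ^ n))).homology 0 = CohIII.koszulHPow fs M p n := by
  change _ = (CohIII.koszulCx M (fs.map (· ^ n))).homology ((p : ℤ) - fs.length)
  rw [show ((p : ℤ) - fs.length) = 0 by omega]

/-- into the colimit -/
noncomputable def topLim (p : ℕ) (hp : p = fs.length) (n : ℕ) :
    M →ₗ[A] CohIII.koszulHLim fs M p :=
  (Module.DirectLimit.of A ℕ (fun n => (CohIII.koszulHPow fs M p n : Type u))
      (fun n m h => (HomologicalComplex.homologyMap (CohIII.koszulTrans M n m h fs)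
        ((p : ℤ) - fs.length)).hom) n) ∘ₗ
    ((topHom M fs n) ≫ eqToHom (deg_eq M fs p hp n)).hom

theorem eqToHom_homologyMap {K L : CochainComplex (ModuleCat.{u} A) ℤ} (φ : K ⟶ L) {i j : ℤ}
    (h : i = j) : eqToHom (congrArg (fun q => K.homology q) h) ≫ HomologicalComplex.homologyMap φ j =
      HomologicalComplex.homologyMap φ i ≫ eqToHom (congrArg (fun q => L.homology q) h) := by
  subst h
  simp

theorem topLim_trans (p : ℕ) (hp : p = fs.length) (n m : ℕ) (h : n ≤ m) (x : M) :
    topLim M fs p hp m (fs.prod ^ (m - n) • x) = topLim M fs p hp n x := by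
  rw [topLim, topLim, LinearMap.comp_apply, LinearMap.comp_apply]
  refine Eq.trans ?_ (Module.DirectLimit.of_f (hij := h)
    (f := fun n m h => (HomologicalComplex.homologyMap (CohIII.koszulTrans M n m h fs)
        ((p : ℤ) - fs.length)).hom))
  congr 1
  simp only [ModuleCat.hom_comp, LinearMap.comp_apply]
  rw [← topHom_trans M fs n m h x]
  exact (congrArg (fun ψ => ψ.hom ((topHom M fs n).hom x)) (eqToHom_homologyMap
    (CohIII.koszulTrans M n m h fs) (show (0 : ℤ) = (p : ℤ) - fs.length by omega))).symm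

theorem topLim_surjective (p : ℕ) (hp : p = fs.length) (z : CohIII.koszulHLim fs M p) :
    ∃ n x, topLim M fs p hp n x = z := by
  obtain ⟨n, y, rfl⟩ := Module.DirectLimit.exists_of
    (G := fun n => (CohIII.koszulHPow fs M p n : Type u))
    (f := fun n m h => (HomologicalComplex.homologyMap (CohIII.koszulTrans M n m h fs)
      ((p : ℤ) - fs.length)).hom) z
  have he : Function.Surjective ((topHom M fs n) ≫ eqToHom (deg_eq M fs p hp n)).hom := by
    rw [ModuleCat.hom_comp, LinearMap.coe_comp]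
    exact ((ModuleCat.epi_iff_surjective _).1 inferInstance).comp (topHom_surjective M fs n)
  obtain ⟨x, hx⟩ := he y
  refine ⟨n, x, ?_⟩
  rw [topLim, LinearMap.comp_apply, hx]
  rfl

theorem topLim_eq_zero_iff (p : ℕ) (hp : p = fs.length) (n : ℕ) (x : M) :
    topLim M fs p hp n x = 0 ↔ ∃ m, n ≤ m ∧
      fs.prod ^ (m - n) • x ∈ Ideal.ofList (fs.map (· ^ m)) • (⊤ : Submodule A M) := by
  have hinj : ∀ m, Function.Injective (eqToHom (deg_eq M fs p hp m)).hom := fun m =>
    (ModuleCat.mono_iff_injective _).1 inferInstance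
  constructor
  · intro h
    haveI : DirectedSystem (fun n => (CohIII.koszulHPow fs M p n : Type u))
        (fun n m h => (HomologicalComplex.homologyMap (CohIII.koszulTrans M n m h fs)
          ((p : ℤ) - fs.length)).hom) :=
      inferInstanceAs (DirectedSystem (fun n => (LC16.KoszulFam.G fs p M n : Type u))
        (fun n m h => LC16.KoszulFam.trH fs p M n m h))
    obtain ⟨m, hm, h0⟩ := Module.DirectLimit.of.zero_exact h
    refine ⟨m, hm, (topHom_eq_zero_iff M fs m _).1 (hinj m ?_)⟩
    rw [map_zero, ← topHom_trans M fs n m hm x]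
    exact (congrArg (fun ψ => ψ.hom ((topHom M fs n).hom x)) (eqToHom_homologyMap
      (CohIII.koszulTrans M n m hm fs)
        (show (0 : ℤ) = (p : ℤ) - fs.length by omega))).symm.trans h0
  · rintro ⟨m, hm, h⟩
    rw [← topLim_trans M fs p hp n m hm, topLim, LinearMap.comp_apply, ModuleCat.hom_comp,
      LinearMap.comp_apply, (topHom_eq_zero_iff M fs m _).2 h, map_zero]
    exact map_zero _

end Groth.Agent.Koszul41
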